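import Mathlib

/-!
# Groups with the standard relations of `PGL₂(F)` (helper306)

`Ok X T w` : `X : F → G` additive, `T : Fˣ →* G`, `T u X a T u⁻¹ = X (u a)`, `w² = 1`, `w T u w⁻¹ = T u⁻¹`,
`w X a w = X (-1/a) T (a⁻²) w X (-1/a)` for `a ≠ 0`, `X 1 ≠ 1`; `F` a field with a unit `v`, `v² ≠ 1`.
The group `H = ⟨X, T, w⟩` is determined up to isomorphism (`exists_equiv`), its elements have a normal form.
-/

set_option autoImplicit false

namespace Cfsg.Agent.H306.PGL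

open Subgroup

universe u v w

/-- The relations. -/
structure Ok {F : Type u} [Field F] {G : Type v} [Group G] (X : F → G) (T : Fˣ →* G) (w : G) : Prop where
  add : ∀ a b, X (a + b) = X a * X b
  conj : ∀ u a, T u * X a * (T u)⁻¹ = X ((u : F) * a)
  w2 : w * w = 1
  wT : ∀ u, w * T u * w⁻¹ = (T u)⁻¹
  wX : ∀ a : Fˣ, w * X a * w = X (-((a⁻¹ : Fˣ) : F)) * T (a⁻¹ * a⁻¹) * w * X (-((a⁻¹ : Fˣ) : F))
  ne : X 1 ≠ 1

variable {F : Type u} [Field F] {G : Type v} [Group G] {X : F → G} {T : Fˣ →* G} {w : G}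

/-- It is enough to have the last relation for `a = 1`. -/
theorem Ok.of_one (add : ∀ a b, X (a + b) = X a * X b) (conj : ∀ u a, T u * X a * (T u)⁻¹ = X ((u : F) * a))
    (w2 : w * w = 1) (wT : ∀ u, w * T u * w⁻¹ = (T u)⁻¹) (wx : w * X 1 * w = X (-1) * w * X (-1)) (ne : X 1 ≠ 1) :
    Ok X T w := by
  refine ⟨add, conj, w2, wT, fun a => ?_, ne⟩
  have hw : w⁻¹ = w := inv_eq_of_mul_eq_one_left w2
  have h1 : w * T a = (T a)⁻¹ * w := by rw [← wT a]; group
  have h3 : X (-((a⁻¹ : Fˣ) : F)) = (T a)⁻¹ * X (-1) * T a := by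
    have h4 := conj a⁻¹ (-1)
    rw [mul_neg, mul_one, map_inv, inv_inv] at h4
    exact h4.symm
  have h5 : X ((a : Fˣ) : F) = T a * X 1 * (T a)⁻¹ := by
    have h4 := conj a 1
    rw [mul_one] at h4
    exact h4.symm
  have h6 : (T a)⁻¹ * w * T a = (T a)⁻¹ * (T a)⁻¹ * w := by rw [mul_assoc, h1, mul_assoc]
  calc w * X (a : F) * w = (w * T a) * X 1 * ((T a)⁻¹ * w) := by rw [h5]; group
    _ = ((T a)⁻¹ * w) * X 1 * (w * T a) := by rw [h1]
    _ = (T a)⁻¹ * (w * X 1 * w) * T a := by group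
    _ = ((T a)⁻¹ * X (-1) * T a) * ((T a)⁻¹ * w * T a) * ((T a)⁻¹ * X (-1) * T a) := by rw [wx]; group
    _ = _ := by rw [h6, ← h3, map_mul, map_inv]; group

/-- The group. -/
def HH (X : F → G) (T : Fˣ →* G) (w : G) : Subgroup G := closure (Set.range X ∪ Set.range T ∪ {w})

namespace Ok

theorem zero (h : Ok X T w) : X 0 = 1 := by
  have h1 := h.add 0 0
  rw [add_zero] at h1
  exact left_eq_mul.1 h1

theorem neg (h : Ok X T w) (a : F) : X (-a) = (X a)⁻¹ := by
  rw [eq_inv_iff_mul_eq_one, ← h.add, neg_add_cancel, h.zero]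

theorem winv (h : Ok X T w) : w⁻¹ = w := inv_eq_of_mul_eq_one_left h.w2

theorem wTw (h : Ok X T w) (u : Fˣ) : w * T u = (T u)⁻¹ * w := by
  rw [← h.wT u]; group

theorem TX (h : Ok X T w) (u : Fˣ) (a : F) : T u * X a = X ((u : F) * a) * T u := by
  rw [← h.conj]; group

/-- `X` is injective. -/
theorem eq_zero (h : Ok X T w) {a : F} (ha : X a = 1) : a = 0 := by
  by_contra h0
  apply h.ne
  have h1 := h.conj (Units.mk0 a h0)⁻¹ a
  rw [ha, mul_one, mul_inv_cancel] at h1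
  rw [h1, Units.val_inv_eq_inv_val, Units.val_mk0, inv_mul_cancel₀ h0]

theorem eq_one (h : Ok X T w) {a : F} {u : Fˣ} (ha : X a * T u = 1) : a = 0 ∧ u = 1 := by
  have h1 : T u = X (-a) := by rw [h.neg]; exact eq_inv_of_mul_eq_one_right ha
  have h2 := h.conj u 1
  rw [h1] at h2
  have h3 : X (-a) * X 1 * (X (-a))⁻¹ = X 1 := by
    rw [← h.neg, ← h.add, ← h.add]; congr 1; ring
  rw [h3, mul_one] at h2
  have h4 : X ((u : F) - 1) = 1 := by
    rw [sub_eq_add_neg, h.add, h.neg, ← h2, mul_inv_cancel]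
  have h5 : (u : F) = 1 := sub_eq_zero.1 (h.eq_zero h4)
  have h6 : u = 1 := Units.ext h5
  refine ⟨?_, h6⟩
  rw [h6, map_one, mul_one] at ha
  exact h.eq_zero ha

theorem inj (h : Ok X T w) {a b : F} {u v : Fˣ} (hab : X a * T u = X b * T v) : a = b ∧ u = v := by
  have h1 : X (a - b) * T (u * v⁻¹) = 1 := by
    have h2 : X a = X b * T v * (T u)⁻¹ := by rw [← hab]; group
    have h3 : X (a - b) = X a * (X b)⁻¹ := by rw [sub_eq_add_neg, h.add, h.neg]
    have h4 : X (a - b) = (X b)⁻¹ * X a := by rw [sub_eq_neg_add, h.add, h.neg]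
    rw [h4, h2, map_mul, map_inv]
    have h5 : T v * (T u)⁻¹ = (T u)⁻¹ * T v := by
      rw [← map_inv, ← map_mul, ← map_mul, mul_comm]
    calc (X b)⁻¹ * (X b * T v * (T u)⁻¹) * (T u * (T v)⁻¹)
        = (T v * (T u)⁻¹) * (T u * (T v)⁻¹) := by group
      _ = 1 := by group
  obtain ⟨h2, h3⟩ := h.eq_one h1
  exact ⟨sub_eq_zero.1 h2, mul_inv_eq_one.1 h3⟩

/-- the group `B` -/
def B (h : Ok X T w) : Subgroup G where
  carrier := {g | ∃ a u, g = X a * T u}
  one_mem' := ⟨0, 1, by rw [h.zero, map_one, mul_one]⟩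
  mul_mem' := by
    rintro _ _ ⟨a, u, rfl⟩ ⟨b, v, rfl⟩
    refine ⟨a + (u : F) * b, u * v, ?_⟩
    rw [h.add, map_mul, mul_assoc, ← mul_assoc (T u), h.TX]
    simp only [mul_assoc]
  inv_mem' := by
    rintro _ ⟨a, u, rfl⟩
    refine ⟨((u⁻¹ : Fˣ) : F) * (-a), u⁻¹, ?_⟩
    rw [← h.TX, h.neg, map_inv, mul_inv_rev]

theorem mem_B (h : Ok X T w) {g : G} : g ∈ h.B ↔ ∃ a u, g = X a * T u := Iff.rfl

theorem X_mem_B (h : Ok X T w) (a : F) : X a ∈ h.B := ⟨a, 1, by rw [map_one, mul_one]⟩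

theorem T_mem_B (h : Ok X T w) (u : Fˣ) : T u ∈ h.B := ⟨0, u, by rw [h.zero, one_mul]⟩

theorem w_not_mem (h : Ok X T w) {v : Fˣ} (hv : v * v ≠ 1) : w ∉ h.B := by
  rintro ⟨a, u, hw⟩
  have h1 := h.wT v
  rw [← map_inv, hw] at h1
  have h2 : X a * T u * T v * (X a * T u)⁻¹ = X (a - (v : F) * a) * T v := by
    calc X a * T u * T v * (X a * T u)⁻¹ = X a * (T u * T v * (T u)⁻¹) * (X a)⁻¹ := by group
      _ = X a * T v * X (-a) := by
        rw [← map_inv, ← map_mul, ← map_mul, mul_comm u v, mul_inv_cancel_right, h.neg]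
      _ = X (a - (v : F) * a) * T v := by
        rw [mul_assoc, h.TX, ← mul_assoc, ← h.add]; congr 2; ring
  rw [h2] at h1
  have h3 : X (a - (v : F) * a) * T v = X 0 * T v⁻¹ := by rw [h1, h.zero, one_mul]
  have h4 := (h.inj h3).2
  apply hv
  calc v * v = v * v⁻¹ := by rw [← h4]
    _ = 1 := mul_inv_cancel v

/-- The normal form. -/
def nf (X : F → G) (T : Fˣ →* G) (w : G) : F × Fˣ × Option F → G
  | (a, u, none) => X a * T u
  | (a, u, some b) => X a * T u * w * X b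

theorem nf_inj (h : Ok X T w) {v : Fˣ} (hv : v * v ≠ 1) : Function.Injective (nf X T w) := by
  have hw := h.w_not_mem hv
  rintro ⟨a, u, (_ | b)⟩ ⟨a', u', (_ | b')⟩ heq
  · obtain ⟨h1, h2⟩ := h.inj (show X a * T u = X a' * T u' from heq)
    rw [h1, h2]
  · exfalso
    have h1 : X a * T u = X a' * T u' * w * X b' := heq
    apply hw
    have h2 : w = (X a' * T u')⁻¹ * (X a * T u) * (X b')⁻¹ := by rw [h1]; group
    have h3 : (X a' * T u')⁻¹ * (X a * T u) * (X b')⁻¹ ∈ h.B :=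
      mul_mem (mul_mem (inv_mem ⟨a', u', rfl⟩) ⟨a, u, rfl⟩) (inv_mem (h.X_mem_B b'))
    rwa [← h2] at h3
  · exfalso
    have h1 : X a * T u * w * X b = X a' * T u' := heq
    apply hw
    have h2 : w = (X a * T u)⁻¹ * (X a' * T u') * (X b)⁻¹ := by rw [← h1]; group
    have h3 : (X a * T u)⁻¹ * (X a' * T u') * (X b)⁻¹ ∈ h.B :=
      mul_mem (mul_mem (inv_mem ⟨a, u, rfl⟩) ⟨a', u', rfl⟩) (inv_mem (h.X_mem_B b))
    rwa [← h2] at h3
  · have h1 : X a * T u * w * X b = X a' * T u' * w * X b' := heq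
    by_cases hb : b = b'
    · subst hb
      have h2 : X a * T u = X a' * T u' := mul_right_cancel (mul_right_cancel h1)
      obtain ⟨h3, h4⟩ := h.inj h2
      rw [h3, h4]
    · exfalso
      apply hw
      have hc : b - b' ≠ 0 := sub_ne_zero.2 hb
      set c : Fˣ := Units.mk0 (b - b') hc with hcd
      have h2 : (X a * T u)⁻¹ * (X a' * T u') = w * X (c : F) * w := by
        have h3 : X (c : F) = X b * (X b')⁻¹ := by
          rw [hcd, Units.val_mk0, sub_eq_add_neg, h.add, h.neg]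
        have h4 : X a' * T u' = X a * T u * w * X b * (X b')⁻¹ * w⁻¹ := by rw [h1]; group
        rw [h4, h3, h.winv]; group
      rw [h.wX] at h2
      have h3 : w = (X (-((c⁻¹ : Fˣ) : F)) * T (c⁻¹ * c⁻¹))⁻¹ * ((X a * T u)⁻¹ * (X a' * T u')) *
          (X (-((c⁻¹ : Fˣ) : F)))⁻¹ := by rw [h2]; group
      have h4 : (X (-((c⁻¹ : Fˣ) : F)) * T (c⁻¹ * c⁻¹))⁻¹ * ((X a * T u)⁻¹ * (X a' * T u')) *
          (X (-((c⁻¹ : Fˣ) : F)))⁻¹ ∈ h.B :=
        mul_mem (mul_mem (inv_mem ⟨_, _, rfl⟩) (mul_mem (inv_mem ⟨a, u, rfl⟩) ⟨a', u', rfl⟩))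
          (inv_mem (h.X_mem_B _))
      rwa [← h3] at h4

theorem X_mem (X : F → G) (T : Fˣ →* G) (w : G) (a : F) : X a ∈ HH X T w :=
  subset_closure (Or.inl (Or.inl ⟨a, rfl⟩))

theorem T_mem (X : F → G) (T : Fˣ →* G) (w : G) (u : Fˣ) : T u ∈ HH X T w :=
  subset_closure (Or.inl (Or.inr ⟨u, rfl⟩))

theorem w_mem (X : F → G) (T : Fˣ →* G) (w : G) : w ∈ HH X T w := subset_closure (Or.inr rfl)

theorem nf_mem (p : F × Fˣ × Option F) : nf X T w p ∈ HH X T w := by
  obtain ⟨a, u, (_ | b)⟩ := p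
  · exact mul_mem (X_mem X T w a) (T_mem X T w u)
  · exact mul_mem (mul_mem (mul_mem (X_mem X T w a) (T_mem X T w u)) (w_mem X T w)) (X_mem X T w b)

/-- the set of normal forms is invariant under multiplication by the generators -/
theorem nf_mul_X (h : Ok X T w) (p : F × Fˣ × Option F) (c : F) : ∃ p', nf X T w p * X c = nf X T w p' := by
  obtain ⟨a, u, (_ | b)⟩ := p
  · refine ⟨(a + (u : F) * c, u, none), ?_⟩
    change X a * T u * X c = X (a + (u : F) * c) * T u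
    rw [h.add, mul_assoc, h.TX, mul_assoc]
  · refine ⟨(a, u, some (b + c)), ?_⟩
    change X a * T u * w * X b * X c = X a * T u * w * X (b + c)
    rw [h.add, mul_assoc]

theorem nf_mul_T (h : Ok X T w) (p : F × Fˣ × Option F) (c : Fˣ) : ∃ p', nf X T w p * T c = nf X T w p' := by
  obtain ⟨a, u, (_ | b)⟩ := p
  · refine ⟨(a, u * c, none), ?_⟩
    change X a * T u * T c = X a * T (u * c)
    rw [map_mul, mul_assoc]
  · refine ⟨(a, u * c⁻¹, some (((c⁻¹ : Fˣ) : F) * b)), ?_⟩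
    change X a * T u * w * X b * T c = X a * T (u * c⁻¹) * w * X (((c⁻¹ : Fˣ) : F) * b)
    have h1 : X b * T c = T c * X (((c⁻¹ : Fˣ) : F) * b) := by
      rw [h.TX]; congr 2
      rw [← mul_assoc, Units.mul_inv, one_mul]
    rw [mul_assoc, h1, ← mul_assoc, mul_assoc (X a * T u), h.wTw, map_mul, map_inv]
    group

theorem nf_mul_w (h : Ok X T w) (p : F × Fˣ × Option F) : ∃ p', nf X T w p * w = nf X T w p' := by
  obtain ⟨a, u, (_ | b)⟩ := p
  · refine ⟨(a, u, some 0), ?_⟩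
    change X a * T u * w = X a * T u * w * X 0
    rw [h.zero, mul_one]
  · by_cases hb : b = 0
    · subst hb
      refine ⟨(a, u, none), ?_⟩
      change X a * T u * w * X 0 * w = X a * T u
      rw [h.zero, mul_one, mul_assoc, h.w2, mul_one]
    · set c : Fˣ := Units.mk0 b hb with hc
      have hcb : (c : F) = b := rfl
      refine ⟨(a + (u : F) * (-((c⁻¹ : Fˣ) : F)), u * (c⁻¹ * c⁻¹), some (-((c⁻¹ : Fˣ) : F))), ?_⟩
      change X a * T u * w * X b * w =
        X (a + (u : F) * (-((c⁻¹ : Fˣ) : F))) * T (u * (c⁻¹ * c⁻¹)) * w * X (-((c⁻¹ : Fˣ) : F))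
      have h1 := h.wX c
      rw [hcb] at h1
      calc X a * T u * w * X b * w = X a * T u * (w * X b * w) := by group
        _ = X a * (T u * X (-((c⁻¹ : Fˣ) : F))) * T (c⁻¹ * c⁻¹) * w * X (-((c⁻¹ : Fˣ) : F)) := by
          rw [h1]; group
        _ = _ := by rw [h.TX, map_mul T u, h.add]; group

theorem exists_nf (h : Ok X T w) {g : G} (hg : g ∈ HH X T w) : ∃ p, g = nf X T w p := by
  induction hg using closure_induction_right with
  | one => exact ⟨(0, 1, none), by change (1 : G) = X 0 * T 1; rw [h.zero, map_one, mul_one]⟩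
  | mul_right g y hg hy ih =>
    obtain ⟨p, rfl⟩ := ih
    rcases hy with (⟨c, rfl⟩ | ⟨c, rfl⟩) | rfl
    · exact h.nf_mul_X p c
    · exact h.nf_mul_T p c
    · exact h.nf_mul_w p
  | mul_inv_cancel g y hg hy ih =>
    obtain ⟨p, rfl⟩ := ih
    rcases hy with (⟨c, rfl⟩ | ⟨c, rfl⟩) | hy
    · rw [← h.neg]; exact h.nf_mul_X p _
    · rw [← map_inv]; exact h.nf_mul_T p _
    · rw [Set.mem_singleton_iff.1 hy, h.winv]
      exact h.nf_mul_w p

/-- the normal form as a bijection -/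
noncomputable def nfEquiv (h : Ok X T w) {v : Fˣ} (hv : v * v ≠ 1) : (F × Fˣ × Option F) ≃ HH X T w :=
  Equiv.ofBijective (fun p => ⟨nf X T w p, nf_mem p⟩) ⟨fun _ _ hab => h.nf_inj hv (congrArg Subtype.val hab),
    fun g => (h.exists_nf g.2).imp fun _ hp => Subtype.ext hp.symm⟩

/-- The order. -/
theorem card [Fintype F] (h : Ok X T w) {v : Fˣ} (hv : v * v ≠ 1) :
    Nat.card (HH X T w) = Fintype.card F * ((Fintype.card F - 1) * (Fintype.card F + 1)) := by
  classical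
  rw [← Nat.card_congr (h.nfEquiv hv), Nat.card_prod, Nat.card_prod, Nat.card_eq_fintype_card,
    Nat.card_eq_fintype_card, Nat.card_eq_fintype_card, Fintype.card_units, Fintype.card_option]

section Prod

variable {G' : Type w} [Group G'] {X' : F → G'} {T' : Fˣ →* G'} {w' : G'}

theorem prod (h : Ok X T w) (h' : Ok X' T' w') : Ok (fun a => (X a, X' a)) (T.prod T') (w, w') where
  add a b := Prod.ext (h.add a b) (h'.add a b)
  conj u a := Prod.ext (h.conj u a) (h'.conj u a)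
  w2 := Prod.ext h.w2 h'.w2
  wT u := Prod.ext (h.wT u) (h'.wT u)
  wX a := Prod.ext (h.wX a) (h'.wX a)
  ne h1 := h.ne (congrArg Prod.fst h1)

theorem nf_fst (p : F × Fˣ × Option F) : (nf (fun a => (X a, X' a)) (T.prod T') (w, w') p).1 = nf X T w p := by
  obtain ⟨a, u, (_ | b)⟩ := p <;> rfl

theorem nf_snd (p : F × Fˣ × Option F) : (nf (fun a => (X a, X' a)) (T.prod T') (w, w') p).2 = nf X' T' w' p := by
  obtain ⟨a, u, (_ | b)⟩ := p <;> rfl

/-- **The group is determined by the relations.** -/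
theorem exists_equiv (h : Ok X T w) (h' : Ok X' T' w') {v : Fˣ} (hv : v * v ≠ 1) :
    ∃ e : HH X T w ≃* HH X' T' w', ∀ p, e ⟨nf X T w p, nf_mem p⟩ = ⟨nf X' T' w' p, nf_mem p⟩ := by
  have hp := h.prod h'
  refine ⟨MulEquiv.mk' ((h.nfEquiv hv).symm.trans (h'.nfEquiv hv)) ?_, ?_⟩
  · intro g₁ g₂
    obtain ⟨p, rfl⟩ := (h.nfEquiv hv).surjective g₁
    obtain ⟨p', rfl⟩ := (h.nfEquiv hv).surjective g₂
    obtain ⟨p'', hp''⟩ := (h.nfEquiv hv).surjective (h.nfEquiv hv p * h.nfEquiv hv p')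
    -- in the product
    obtain ⟨r, hr⟩ := hp.exists_nf (mul_mem (nf_mem p) (nf_mem p') :
      nf (fun a => (X a, X' a)) (T.prod T') (w, w') p * nf (fun a => (X a, X' a)) (T.prod T') (w, w') p' ∈ _)
    have h1 := congrArg Prod.fst hr
    have h2 := congrArg Prod.snd hr
    rw [Prod.fst_mul, nf_fst, nf_fst, nf_fst] at h1
    rw [Prod.snd_mul, nf_snd, nf_snd, nf_snd] at h2
    have h3 : nf X T w p'' = nf X T w p * nf X T w p' := congrArg Subtype.val hp''
    have h4 : p'' = r := h.nf_inj hv (h3.trans h1)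
    rw [← hp'', Equiv.trans_apply, Equiv.trans_apply, Equiv.trans_apply, Equiv.symm_apply_apply,
      Equiv.symm_apply_apply, Equiv.symm_apply_apply, h4]
    exact Subtype.ext h2.symm
  · intro p
    have h1 : (⟨nf X T w p, nf_mem p⟩ : HH X T w) = h.nfEquiv hv p := rfl
    rw [h1]
    change (h'.nfEquiv hv) ((h.nfEquiv hv).symm (h.nfEquiv hv p)) = _
    rw [Equiv.symm_apply_apply]
    rfl

end Prod

end Ok

end Cfsg.Agent.H306.PGL
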