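import Cfsg.Agent.H306.PGL.Core

/-!
# The model `PGL₂(F) = GL₂(F) / Z` (helper306)
-/

set_option autoImplicit false

namespace Cfsg.Agent.H306.PGL

open Subgroup Matrix

universe u

variable (F : Type u) [Field F]

/-- `PGL₂(F)` -/
abbrev P2 : Type u := GL (Fin 2) F ⧸ Subgroup.center (GL (Fin 2) F)

variable {F}

/-- the matrix `[1 a; 0 1]` -/
def mX (a : F) : GL (Fin 2) F where
  val := !![1, a; 0, 1]
  inv := !![1, -a; 0, 1]
  val_inv := by rw [Matrix.mul_fin_two, Matrix.one_fin_two]; simp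
  inv_val := by rw [Matrix.mul_fin_two, Matrix.one_fin_two]; simp

/-- the matrix `diag(u, 1)` -/
def mT : Fˣ →* GL (Fin 2) F where
  toFun u :=
    { val := !![(u : F), 0; 0, 1]
      inv := !![((u⁻¹ : Fˣ) : F), 0; 0, 1]
      val_inv := by rw [Matrix.mul_fin_two, Matrix.one_fin_two]; simp
      inv_val := by rw [Matrix.mul_fin_two, Matrix.one_fin_two]; simp }
  map_one' := by
    apply Units.ext
    change !![((1 : Fˣ) : F), 0; 0, 1] = ((1 : GL (Fin 2) F) : Matrix (Fin 2) (Fin 2) F)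
    rw [Units.val_one, Units.val_one, Matrix.one_fin_two]
  map_mul' u v := by
    apply Units.ext
    change !![((u * v : Fˣ) : F), 0; 0, 1] = !![(u : F), 0; 0, 1] * !![(v : F), 0; 0, 1]
    rw [Matrix.mul_fin_two]; simp

/-- the matrix `[0 -1; 1 0]` -/
def mW (F : Type u) [Field F] : GL (Fin 2) F where
  val := !![0, -1; 1, 0]
  inv := !![0, 1; -1, 0]
  val_inv := by rw [Matrix.mul_fin_two, Matrix.one_fin_two]; simp
  inv_val := by rw [Matrix.mul_fin_two, Matrix.one_fin_two]; simp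

theorem val_mX (a : F) : ((mX a : GL (Fin 2) F) : Matrix (Fin 2) (Fin 2) F) = !![1, a; 0, 1] := rfl

theorem val_mT (u : Fˣ) : ((mT u : GL (Fin 2) F) : Matrix (Fin 2) (Fin 2) F) = !![(u : F), 0; 0, 1] := rfl

theorem val_mW : ((mW F : GL (Fin 2) F) : Matrix (Fin 2) (Fin 2) F) = !![0, -1; 1, 0] := rfl

/-- scalar matrices -/
def sc (c : Fˣ) : GL (Fin 2) F where
  val := !![(c : F), 0; 0, (c : F)]
  inv := !![((c⁻¹ : Fˣ) : F), 0; 0, ((c⁻¹ : Fˣ) : F)]
  val_inv := by rw [Matrix.mul_fin_two, Matrix.one_fin_two]; simp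
  inv_val := by rw [Matrix.mul_fin_two, Matrix.one_fin_two]; simp

theorem sc_mem (c : Fˣ) : sc c ∈ Subgroup.center (GL (Fin 2) F) := by
  rw [Subgroup.mem_center_iff]
  intro g
  apply Units.ext
  rw [Units.val_mul, Units.val_mul]
  change (g : Matrix (Fin 2) (Fin 2) F) * !![(c : F), 0; 0, (c : F)] = !![(c : F), 0; 0, (c : F)] * g
  rw [Matrix.eta_fin_two (g : Matrix (Fin 2) (Fin 2) F), Matrix.mul_fin_two, Matrix.mul_fin_two]
  simp only [mul_zero, zero_mul, add_zero, zero_add]
  simp only [mul_comm]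

theorem mk_eq {g g' : GL (Fin 2) F} (c : Fˣ) (h : g = sc c * g') : (g : P2 F) = (g' : P2 F) := by
  rw [h, QuotientGroup.mk_mul, (QuotientGroup.eq_one_iff _).2 (sc_mem c), one_mul]

/-- The relations hold in the model. -/
theorem ok_model : Ok (fun a : F => (mX a : P2 F)) ((QuotientGroup.mk' _).comp mT) (mW F : P2 F) := by
  refine Ok.of_one ?_ ?_ ?_ ?_ ?_ ?_
  · intro a b
    rw [← QuotientGroup.mk_mul]
    congr 1
    apply Units.ext
    rw [Units.val_mul, val_mX, val_mX, val_mX, Matrix.mul_fin_two]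
    simp [add_comm]
  · intro u a
    change (mT u : P2 F) * (mX a : P2 F) * (mT u : P2 F)⁻¹ = (mX ((u : F) * a) : P2 F)
    rw [mul_inv_eq_iff_eq_mul, ← QuotientGroup.mk_mul, ← QuotientGroup.mk_mul]
    congr 1
    apply Units.ext
    rw [Units.val_mul, Units.val_mul, val_mX, val_mX, val_mT, Matrix.mul_fin_two, Matrix.mul_fin_two]
    simp
  · rw [← QuotientGroup.mk_mul, QuotientGroup.eq_one_iff]
    have h : (mW F * mW F : GL (Fin 2) F) = sc (-1) := by
      apply Units.ext
      rw [Units.val_mul, val_mW, Matrix.mul_fin_two]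
      change _ = !![((-1 : Fˣ) : F), 0; 0, ((-1 : Fˣ) : F)]
      simp
    rw [h]
    exact sc_mem _
  · intro u
    change (mW F : P2 F) * (mT u : P2 F) * (mW F : P2 F)⁻¹ = (mT u : P2 F)⁻¹
    rw [mul_inv_eq_iff_eq_mul, eq_inv_mul_iff_mul_eq, ← QuotientGroup.mk_mul, ← QuotientGroup.mk_mul]
    refine mk_eq u ?_
    apply Units.ext
    rw [Units.val_mul, Units.val_mul, Units.val_mul, val_mT, val_mW, Matrix.mul_fin_two, Matrix.mul_fin_two]
    change _ = !![(u : F), 0; 0, (u : F)] * !![0, -1; 1, 0]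
    rw [Matrix.mul_fin_two]
    simp
  · rw [← QuotientGroup.mk_mul, ← QuotientGroup.mk_mul, ← QuotientGroup.mk_mul, ← QuotientGroup.mk_mul]
    congr 1
    apply Units.ext
    simp only [Units.val_mul, val_mX, val_mW]
    simp only [Matrix.mul_fin_two]
    simp
  · intro h
    rw [QuotientGroup.eq_one_iff, Subgroup.mem_center_iff] at h
    have h1 := h (mW F)
    have h2 := congrArg (fun g : GL (Fin 2) F => (g : Matrix (Fin 2) (Fin 2) F) 0 0) h1
    simp only [Units.val_mul, val_mX, val_mW, Matrix.mul_fin_two] at h2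
    simp at h2

theorem ok_model_top : HH (fun a : F => (mX a : P2 F)) ((QuotientGroup.mk' _).comp mT) (mW F : P2 F) = ⊤ := by
  rw [eq_top_iff]
  intro g _
  obtain ⟨m, rfl⟩ := QuotientGroup.mk_surjective g
  have hdet : IsUnit (m : Matrix (Fin 2) (Fin 2) F).det := (Matrix.isUnit_iff_isUnit_det _).1 m.isUnit
  have hdet0 := hdet.ne_zero
  rw [Matrix.det_fin_two] at hdet0
  set a := (m : Matrix (Fin 2) (Fin 2) F) 0 0 with ha
  set b := (m : Matrix (Fin 2) (Fin 2) F) 0 1 with hb
  set c := (m : Matrix (Fin 2) (Fin 2) F) 1 0 with hc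
  set d := (m : Matrix (Fin 2) (Fin 2) F) 1 1 with hd
  have hm : (m : Matrix (Fin 2) (Fin 2) F) = !![a, b; c, d] := Matrix.eta_fin_two _
  by_cases hc0 : c = 0
  · rw [hc0, mul_zero, sub_zero] at hdet0
    have ha0 : a ≠ 0 := left_ne_zero_of_mul hdet0
    have hd0 : d ≠ 0 := right_ne_zero_of_mul hdet0
    have h1 : (m : P2 F) = (mX (b / d) : P2 F) * (mT (Units.mk0 (a / d) (div_ne_zero ha0 hd0)) : P2 F) := by
      rw [← QuotientGroup.mk_mul]
      refine mk_eq (Units.mk0 d hd0) ?_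
      apply Units.ext
      simp only [Units.val_mul, val_mX, val_mT]
      rw [hm, hc0]
      change _ = !![((Units.mk0 d hd0 : Fˣ) : F), 0; 0, ((Units.mk0 d hd0 : Fˣ) : F)] * _
      simp only [Matrix.mul_fin_two, Units.val_mk0]
      have e1 : a = d * (a / d) := by field_simp
      have e2 : b = d * (b / d) := by field_simp
      ext i j
      fin_cases i <;> fin_cases j
      · simpa using e1
      · simpa using e2
      · simp
      · simp
    rw [h1]
    exact mul_mem (Ok.X_mem _ _ _ _) (Ok.T_mem _ _ _ _)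
  · have hu : (a * d - b * c) / (c * c) ≠ 0 := div_ne_zero hdet0 (mul_ne_zero hc0 hc0)
    have h1 : (m : P2 F) = (mX (a / c) : P2 F) * (mT (Units.mk0 _ hu) : P2 F) * (mW F : P2 F) *
        (mX (d / c) : P2 F) := by
      rw [← QuotientGroup.mk_mul, ← QuotientGroup.mk_mul, ← QuotientGroup.mk_mul]
      refine mk_eq (Units.mk0 c hc0) ?_
      apply Units.ext
      simp only [Units.val_mul, val_mX, val_mT, val_mW]
      rw [hm]
      change _ = !![((Units.mk0 c hc0 : Fˣ) : F), 0; 0, ((Units.mk0 c hc0 : Fˣ) : F)] * _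
      simp only [Matrix.mul_fin_two, Units.val_mk0]
      have e1 : a = c * (a / c) := by field_simp
      have e2 : b = c * (a / c * (d / c) + -((a * d - b * c) / (c * c))) := by field_simp; ring
      have e3 : d = c * (d / c) := by field_simp
      ext i j
      fin_cases i <;> fin_cases j
      · simpa using e1
      · simpa using e2
      · simp
      · simpa using e3
    rw [h1]
    exact mul_mem (mul_mem (mul_mem (Ok.X_mem _ _ _ _) (Ok.T_mem _ _ _ _)) (Ok.w_mem _ _ _)) (Ok.X_mem _ _ _ _)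

/-- **Recognition of `PGL₂(F)`.** -/
theorem nonempty_equiv {G : Type*} [Group G] {X : F → G} {T : Fˣ →* G} {w : G} (h : Ok X T w) {v : Fˣ}
    (hv : v * v ≠ 1) : Nonempty (HH X T w ≃* P2 F) := by
  obtain ⟨e, -⟩ := h.exists_equiv (ok_model (F := F)) hv
  have h1 := ok_model_top (F := F)
  exact ⟨e.trans ((MulEquiv.subgroupCongr h1).trans Subgroup.topEquiv)⟩

end Cfsg.Agent.H306.PGL
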