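import Cfsg.Agent.H306.PGL.Model
import Cfsg.Agent.H857.Ree8.Defs

/-!
# Task B of S5936 (helper306): the relations `Rel x s w` characterize `PGL₂(13)`
-/

set_option autoImplicit false

namespace Cfsg.Agent.H306.PGL

open Subgroup Cfsg.Agent.H857.Ree8

/-- the discrete logarithm to the base `2` modulo `13` -/
def lg (a : ZMod 13) : ℕ := (![0, 0, 1, 4, 2, 9, 5, 11, 3, 8, 10, 7, 6] : Fin 13 → ℕ) a

theorem lg_mul : ∀ a b : ZMod 13, a ≠ 0 → b ≠ 0 → lg (a * b) % 12 = (lg a + lg b) % 12 := by decide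

theorem two_pow_lg : ∀ a : ZMod 13, a ≠ 0 → (2 : ZMod 13) ^ lg a = a := by decide

theorem lg_one : lg 1 = 0 := rfl

theorem lg_two : lg 2 = 1 := rfl

instance fact13 : Fact (Nat.Prime 13) := ⟨by norm_num⟩

/-- the unit `2` -/
def two : (ZMod 13)ˣ := ⟨2, 7, by decide, by decide⟩

theorem coe_two : (two : ZMod 13) = 2 := rfl

theorem two_sq_ne : two * two ≠ 1 := by decide

variable {G : Type*} [Group G] {x s w : G}

/-- the torus -/
def TT (h : Rel x s w) : (ZMod 13)ˣ →* G where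
  toFun u := s ^ lg (u : ZMod 13)
  map_one' := by rw [Units.val_one, lg_one, pow_zero]
  map_mul' u v := by
    rw [← pow_add, Units.val_mul, pow_eq_pow_mod _ h.s12, lg_mul _ _ u.ne_zero v.ne_zero,
      ← pow_eq_pow_mod _ h.s12]

theorem TT_apply (h : Rel x s w) (u : (ZMod 13)ˣ) : TT h u = s ^ lg (u : ZMod 13) := rfl

theorem TT_two (h : Rel x s w) : TT h two = s := by rw [TT_apply, coe_two, lg_two, pow_one]

/-- the additive parametrization -/
def XX (x : G) (a : ZMod 13) : G := x ^ a.val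

theorem XX_one (x : G) : XX x 1 = x := by
  have : (1 : ZMod 13).val = 1 := rfl
  rw [XX, this, pow_one]

theorem XX_natCast (h13 : x ^ 13 = 1) (n : ℕ) : XX x (n : ZMod 13) = x ^ n := by
  rw [XX, ZMod.val_natCast, ← pow_eq_pow_mod _ h13]

theorem XX_add (h13 : x ^ 13 = 1) (a b : ZMod 13) : XX x (a + b) = XX x a * XX x b := by
  rw [XX, ZMod.val_add, ← pow_eq_pow_mod _ h13, pow_add]
  rfl

theorem conj_pow_two (h : s * x * s⁻¹ = x ^ 2) (n k : ℕ) : s ^ n * x ^ k * (s ^ n)⁻¹ = x ^ (2 ^ n * k) := by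
  induction n with
  | zero => rw [pow_zero, one_mul, inv_one, mul_one, pow_zero, one_mul]
  | succ n ih =>
    have h1 : s ^ (n + 1) * x ^ k * (s ^ (n + 1))⁻¹ = s * (s ^ n * x ^ k * (s ^ n)⁻¹) * s⁻¹ := by
      rw [pow_succ']; group
    have h2 : ∀ m : ℕ, s * x ^ m * s⁻¹ = x ^ (2 * m) := by
      intro m
      rw [← conj_pow, h, pow_mul]
    rw [h1, ih, h2]
    congr 1
    ring

theorem ok_of_rel (h : Rel x s w) : Ok (XX x) (TT h) w := by
  have hw : w⁻¹ = w := inv_eq_of_mul_eq_one_left h.w2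
  refine Ok.of_one (XX_add h.x13) ?_ h.w2 ?_ ?_ ?_
  · intro u a
    rw [TT_apply, XX, conj_pow_two h.sx, ← XX_natCast h.x13]
    congr 1
    rw [Nat.cast_mul, Nat.cast_pow, ZMod.natCast_zmod_val]
    have h1 := two_pow_lg u u.ne_zero
    rw [show ((2 : ℕ) : ZMod 13) = 2 from rfl, h1]
  · intro u
    rw [TT_apply, ← conj_pow, h.ws, inv_pow]
  · have h1 : XX x (-1) = x⁻¹ := by
      rw [eq_inv_iff_mul_eq_one]
      have h2 := XX_add h.x13 (-1) 1
      rw [neg_add_cancel, XX_one] at h2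
      rw [← h2]
      have : (0 : ZMod 13).val = 0 := rfl
      rw [XX, this, pow_zero]
    rw [h1, XX_one]
    have h3 := h.xw
    have h4 : x * w * (x * w) * (x * w) = 1 := by rw [← h3, pow_succ, pow_two]
    calc w * x * w = x⁻¹ * (x * w * (x * w) * (x * w)) * w⁻¹ * x⁻¹ := by group
      _ = x⁻¹ * w * x⁻¹ := by rw [h4, mul_one, hw]
  · rw [XX_one]; exact h.x1

theorem HH_eq (h : Rel x s w) : HH (XX x) (TT h) w = closure {x, s, w} := by
  apply le_antisymm
  · refine (closure_le _).2 ?_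
    rintro g ((⟨a, rfl⟩ | ⟨u, rfl⟩) | rfl)
    · exact pow_mem (subset_closure (by simp)) _
    · exact pow_mem (subset_closure (by simp)) _
    · exact subset_closure (by simp)
  · refine (closure_le _).2 ?_
    rintro g (rfl | rfl | rfl)
    · have h1 := Ok.X_mem (XX g) (TT h) w 1
      rwa [XX_one] at h1
    · have h1 := Ok.T_mem (XX x) (TT h) w two
      rwa [TT_two] at h1
    · exact Ok.w_mem _ _ _

/-- `Rel` from the general relations -/
theorem rel_of_ok {X : ZMod 13 → G} {T : (ZMod 13)ˣ →* G} (h : Ok X T w) : Rel (X 1) (T two) w := by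
  have hX : ∀ n : ℕ, X 1 ^ n = X (n : ZMod 13) := by
    intro n
    induction n with
    | zero => rw [pow_zero, Nat.cast_zero, h.zero]
    | succ n ih => rw [pow_succ, ih, Nat.cast_succ, h.add]
  refine ⟨?_, h.ne, ?_, ?_, h.w2, h.wT _, ?_⟩
  · rw [hX]
    have : ((13 : ℕ) : ZMod 13) = 0 := rfl
    rw [this, h.zero]
  · rw [← map_pow]
    have : two ^ 12 = 1 := by decide
    rw [this, map_one]
  · rw [h.conj, hX, coe_two, mul_one]
    rfl
  · have h1 := h.wX 1
    rw [inv_one, Units.val_one, mul_one, map_one, mul_one, h.neg] at h1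
    calc (X 1 * w) ^ 3 = X 1 * (w * X 1 * w) * X 1 * w := by rw [pow_succ, pow_two]; group
      _ = 1 := by rw [h1]; calc X 1 * ((X 1)⁻¹ * w * (X 1)⁻¹) * X 1 * w = w * w := by group
        _ = 1 := h.w2

/-- **B1** -/
theorem exists_rel : ∃ x s w : (GL (Fin 2) (ZMod 13) ⧸ Subgroup.center (GL (Fin 2) (ZMod 13))),
    Rel x s w ∧ Subgroup.closure {x, s, w} = ⊤ := by
  have h := ok_model (F := ZMod 13)
  have h1 := rel_of_ok h
  refine ⟨_, _, _, h1, ?_⟩
  rw [eq_top_iff, ← ok_model_top (F := ZMod 13)]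
  refine (closure_le _).2 ?_
  have hX : ∀ n : ℕ, (mX (1 : ZMod 13) : P2 (ZMod 13)) ^ n = (mX (n : ZMod 13) : P2 (ZMod 13)) := by
    intro n
    induction n with
    | zero => rw [pow_zero, Nat.cast_zero]; exact h.zero.symm
    | succ n ih => rw [pow_succ, ih, Nat.cast_succ]; exact (h.add _ _).symm
  rintro g ((⟨a, rfl⟩ | ⟨u, rfl⟩) | rfl)
  · have h2 := hX a.val
    rw [ZMod.natCast_zmod_val] at h2
    change (mX a : P2 (ZMod 13)) ∈ _
    rw [← h2]
    exact pow_mem (subset_closure (by simp)) _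
  · have h2 : u = two ^ lg (u : ZMod 13) := by
      apply Units.ext
      rw [Units.val_pow_eq_pow_val, coe_two, two_pow_lg _ u.ne_zero]
    rw [h2, map_pow]
    exact pow_mem (subset_closure (by simp)) _
  · exact subset_closure (by simp)

/-- **B2** -/
theorem equiv_of_rel (h : Rel x s w) : Nonempty (↥(Subgroup.closure {x, s, w}) ≃*
    (GL (Fin 2) (ZMod 13) ⧸ Subgroup.center (GL (Fin 2) (ZMod 13)))) := by
  obtain ⟨e⟩ := nonempty_equiv (ok_of_rel h) two_sq_ne
  exact ⟨(MulEquiv.subgroupCongr (HH_eq h).symm).trans e⟩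

/-- **B4a** -/
theorem card_closure (h : Rel x s w) : Nat.card ↥(Subgroup.closure {x, s, w}) = 2184 := by
  rw [← HH_eq h, (ok_of_rel h).card two_sq_ne, ZMod.card]

/-- the centralizer of `x` -/
theorem mem_of_comm (h : Rel x s w) {g : G} (hg : g ∈ closure {x, s, w}) (hx : g * x = x * g) :
    ∃ a : ZMod 13, g = XX x a := by
  have h' := ok_of_rel h
  rw [← HH_eq h] at hg
  obtain ⟨⟨a, u, (_ | b)⟩, rfl⟩ := h'.exists_nf hg
  · -- `X a T u X 1 = X 1 X a T u`
    have h1 : XX x a * TT h u * XX x 1 = XX x 1 * (XX x a * TT h u) := by rw [XX_one]; exact hx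
    rw [mul_assoc, h'.TX, ← mul_assoc, ← h'.add, ← mul_assoc, ← h'.add] at h1
    have h2 := (h'.inj h1).1
    have h3 : (u : ZMod 13) = 1 := by
      have := h2
      rw [mul_one, add_comm 1 a] at this
      exact add_left_cancel this
    have h4 : u = 1 := Units.ext h3
    refine ⟨a, ?_⟩
    change XX x a * TT h u = XX x a
    rw [h4, map_one, mul_one]
  · exfalso
    have h1 : XX x a * TT h u * w * XX x b * XX x 1 = XX x 1 * (XX x a * TT h u * w * XX x b) := by
      rw [XX_one]; exact hx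
    have h2 : Ok.nf (XX x) (TT h) w (a, u, some (b + 1)) = Ok.nf (XX x) (TT h) w (1 + a, u, some b) := by
      change XX x a * TT h u * w * XX x (b + 1) = XX x (1 + a) * TT h u * w * XX x b
      rw [h'.add, h'.add, ← mul_assoc, h1]
      group
    have h3 := h'.nf_inj two_sq_ne h2
    have h4 : a = 1 + a := congrArg Prod.fst h3
    have h5 : (1 : ZMod 13) = 0 := by
      have := h4.symm
      rwa [add_eq_right] at this
    exact absurd h5 (by decide)

/-- the centralizer of `s` -/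
theorem mem_of_comm_s (h : Rel x s w) {g : G} (hg : g ∈ closure {x, s, w}) (hx : s * g * s⁻¹ = g) :
    ∃ u : (ZMod 13)ˣ, g = TT h u := by
  have h' := ok_of_rel h
  rw [← HH_eq h] at hg
  obtain ⟨⟨a, u, (_ | b)⟩, rfl⟩ := h'.exists_nf hg
  · have h1 : TT h two * (XX x a * TT h u) * (TT h two)⁻¹ = XX x a * TT h u := by rw [TT_two]; exact hx
    have h2 : TT h two * (XX x a * TT h u) * (TT h two)⁻¹ = XX x ((two : ZMod 13) * a) * TT h u := by
      calc TT h two * (XX x a * TT h u) * (TT h two)⁻¹ = (TT h two * XX x a) * TT h u * (TT h two)⁻¹ := by group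
        _ = XX x ((two : ZMod 13) * a) * (TT h two * TT h u * (TT h two)⁻¹) := by rw [h'.TX]; group
        _ = _ := by rw [← map_inv, ← map_mul, ← map_mul, mul_comm two u, mul_inv_cancel_right]
    rw [h2] at h1
    have h3 := (h'.inj h1).1
    have h4 : a = 0 := by
      have : (two : ZMod 13) * a - a = 0 := sub_eq_zero.2 h3
      rw [coe_two] at this
      linear_combination this
    refine ⟨u, ?_⟩
    change XX x a * TT h u = TT h u
    rw [h4, h'.zero, one_mul]
  · exfalso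
    have h1 : TT h two * (XX x a * TT h u * w * XX x b) * (TT h two)⁻¹ = XX x a * TT h u * w * XX x b := by
      rw [TT_two]; exact hx
    have hwT := h'.wTw two
    have h2 : Ok.nf (XX x) (TT h) w ((two : ZMod 13) * a, u * (two * two), some ((two : ZMod 13) * b)) =
        Ok.nf (XX x) (TT h) w (a, u, some b) := by
      change XX x ((two : ZMod 13) * a) * TT h (u * (two * two)) * w * XX x ((two : ZMod 13) * b) =
        XX x a * TT h u * w * XX x b
      rw [← h1, ← h'.conj two a, ← h'.conj two b, map_mul, map_mul]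
      have h3 : TT h two * TT h u = TT h u * TT h two := by rw [← map_mul, ← map_mul, mul_comm]
      calc TT h two * XX x a * (TT h two)⁻¹ * (TT h u * (TT h two * TT h two)) * w *
            (TT h two * XX x b * (TT h two)⁻¹)
          = TT h two * XX x a * (TT h two)⁻¹ * (TT h u * TT h two) * TT h two * (w * TT h two) * XX x b *
            (TT h two)⁻¹ := by group
        _ = TT h two * XX x a * (TT h two)⁻¹ * (TT h two * TT h u) * TT h two * ((TT h two)⁻¹ * w) * XX x b *
            (TT h two)⁻¹ := by rw [h3, hwT]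
        _ = _ := by group
    have h3 := h'.nf_inj two_sq_ne h2
    have h4 : u * (two * two) = u := congrArg (fun p => p.2.1) h3
    exact two_sq_ne (mul_eq_left.1 h4)

/-- **B4b** -/
theorem eq_mul_pow (h : Rel x s w) {w' : G} (hw : w' ∈ closure {x, s, w}) (hs : w' * s * w'⁻¹ = s⁻¹) :
    ∃ k : ℕ, w' = w * s ^ k := by
  obtain ⟨u, hu⟩ := mem_of_comm_s h (g := w⁻¹ * w')
    (mul_mem (inv_mem (subset_closure (by simp))) hw) (by
      have h1 : w' * s * w'⁻¹ = w * s * w⁻¹ := by rw [hs, h.ws]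
      have h2 : w⁻¹ * w' * s = s * (w⁻¹ * w') := by
        calc w⁻¹ * w' * s = w⁻¹ * (w' * s * w'⁻¹) * w' := by group
          _ = s * (w⁻¹ * w') := by rw [h1]; group
      rw [← h2]; group)
  refine ⟨lg u, ?_⟩
  rw [← TT_apply h, ← hu]; group

/-- **B3** -/
theorem pair_conj (h : Rel x s w) (ht : closure {x, s, w} = ⊤) {x' s' : G} (hx1 : x' ≠ 1) (hx13 : x' ^ 13 = 1)
    (hs : s' * x' * s'⁻¹ = x' ^ 2) : ∃ g, g * x * g⁻¹ = x' ∧ g * s * g⁻¹ = s' := by
  have h' := ok_of_rel h
  have hcard : Nat.card G = 2184 := by rw [← card_closure h, ht, card_top]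
  have : Finite G := Nat.finite_of_card_ne_zero (by rw [hcard]; norm_num)
  have hox : orderOf x = 13 := orderOf_eq_prime h.x13 h.x1
  have hox' : orderOf x' = 13 := orderOf_eq_prime hx13 hx1
  -- Sylow subgroups
  have hf : (2184 : ℕ).factorization 13 = 1 := by
    rw [show (2184 : ℕ) = 13 * 168 by norm_num, Nat.factorization_mul (by norm_num) (by norm_num),
      Finsupp.add_apply, Nat.Prime.factorization_self (by norm_num),
      Nat.factorization_eq_zero_of_not_dvd (by norm_num)]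
  have hS : Nat.card (zpowers x) = 13 ^ (Nat.card G).factorization 13 := by
    rw [Nat.card_zpowers, hox, hcard, hf, pow_one]
  have hS' : Nat.card (zpowers x') = 13 ^ (Nat.card G).factorization 13 := by
    rw [Nat.card_zpowers, hox', hcard, hf, pow_one]
  obtain ⟨g, hg⟩ := MulAction.exists_smul_eq G (Sylow.ofCard (zpowers x) hS) (Sylow.ofCard (zpowers x') hS')
  have hg' : x' ∈ (zpowers x).map (MulAut.conj g).toMonoidHom := by
    have h1 := congrArg (fun S : Sylow 13 G => (S : Subgroup G)) hg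
    have h2 : (zpowers x).map (MulAut.conj g).toMonoidHom = zpowers x' := h1
    rw [h2]
    exact mem_zpowers x'
  obtain ⟨y, hy, hyx⟩ := hg'
  have hyx' : g * y * g⁻¹ = x' := hyx
  -- `y = X a`
  obtain ⟨a, rfl⟩ : ∃ a : ZMod 13, y = XX x a := by
    obtain ⟨n, rfl⟩ := (Submonoid.mem_powers_iff _ _).1 (mem_powers_iff_mem_zpowers.2 hy)
    exact ⟨(n : ZMod 13), (XX_natCast h.x13 n).symm⟩
  have ha : a ≠ 0 := by
    rintro rfl
    apply hx1
    rw [← hyx', h'.zero, mul_one, mul_inv_cancel]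
  -- `x' = (g T a) x (g T a)⁻¹`
  set c : (ZMod 13)ˣ := Units.mk0 a ha with hc
  have h1 : TT h c * x * (TT h c)⁻¹ = XX x a := by
    have h2 := h'.conj c 1
    rw [XX_one, mul_one] at h2
    exact h2
  set k := g * TT h c with hk
  have hkx : k * x * k⁻¹ = x' := by
    rw [← hyx', ← h1, hk]; group
  -- `s'' = k⁻¹ s' k`
  have h3 : (s⁻¹ * (k⁻¹ * s' * k)) * x = x * (s⁻¹ * (k⁻¹ * s' * k)) := by
    have h4 : k⁻¹ * s' * k * x * (k⁻¹ * s' * k)⁻¹ = x ^ 2 := by
      have h5 : k⁻¹ * x' * k = x := by rw [← hkx]; group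
      calc k⁻¹ * s' * k * x * (k⁻¹ * s' * k)⁻¹ = k⁻¹ * (s' * (k * x * k⁻¹) * s'⁻¹) * k := by group
        _ = k⁻¹ * x' ^ 2 * k := by rw [hkx, hs]
        _ = (k⁻¹ * x' * k) ^ 2 := by rw [pow_two, pow_two]; group
        _ = x ^ 2 := by rw [h5]
    have h5 : s⁻¹ * x ^ 2 * s = x := by rw [← h.sx]; group
    calc s⁻¹ * (k⁻¹ * s' * k) * x = s⁻¹ * (k⁻¹ * s' * k * x * (k⁻¹ * s' * k)⁻¹) * (k⁻¹ * s' * k) := by group
      _ = (s⁻¹ * x ^ 2 * s) * (s⁻¹ * (k⁻¹ * s' * k)) := by rw [h4]; group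
      _ = _ := by rw [h5]
  obtain ⟨b, hb⟩ := mem_of_comm h (by rw [ht]; exact mem_top _) h3
  -- conjugate with `X (-2 b)`
  refine ⟨k * XX x (-2 * b), ?_, ?_⟩
  · have h4 : XX x (-2 * b) * x * (XX x (-2 * b))⁻¹ = x := by
      have h5 : XX x (-2 * b) * XX x 1 = XX x 1 * XX x (-2 * b) := by rw [← h'.add, ← h'.add, add_comm]
      rw [XX_one] at h5
      rw [h5, mul_inv_cancel_right]
    calc k * XX x (-2 * b) * x * (k * XX x (-2 * b))⁻¹ = k * (XX x (-2 * b) * x * (XX x (-2 * b))⁻¹) * k⁻¹ := by group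
      _ = x' := by rw [h4, hkx]
  · have h4 : XX x (-2 * b) * s * (XX x (-2 * b))⁻¹ = s * XX x b := by
      have h5 : s * XX x (-b) = XX x (-2 * b) * s := by
        have h6 := h'.TX two (-b)
        rw [TT_two, coe_two] at h6
        rw [h6]; congr 2; ring
      rw [← h5, ← h'.neg, mul_assoc, ← h'.add]
      congr 2; ring
    calc k * XX x (-2 * b) * s * (k * XX x (-2 * b))⁻¹ = k * (XX x (-2 * b) * s * (XX x (-2 * b))⁻¹) * k⁻¹ := by group
      _ = s' := by rw [h4, ← hb]; group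

end Cfsg.Agent.H306.PGL
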